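import Groth.Agent.Stein5.Approx
import Groth.Agent.Stein5.Main
import Groth.Agent.SecComp5.Open
import Groth.Agent.H23.RigidAb
import Groth.Agent.H23.GeomConn
import Groth.Agent.H23.MaxAbelian
import Groth.Agent.CurveCohLib.SmoothCurve

/-!
For a proper smooth morphism the union of the fibre components through a section is closed.
-/

set_option autoImplicit false
set_option linter.style.haveILetI false
set_option backward.isDefEq.respectTransparency false
set_option backward.isDefEq.respectTransparency.types false
universe u

open CategoryTheory CategoryTheory.Limits AlgebraicGeometry TopologicalSpace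

namespace Groth.Agent.Stein5Sect

variable {X S : Scheme.{u}} (f : X ⟶ S) [IsProper f] [Flat f] [LocallyOfFinitePresentation f]

/-- The union of the fibre components through a section of a proper flat morphism of finite presentation
is closed. -/
theorem isClosed_sectionComponents (e : S ⟶ X) (he : e ≫ f = 𝟙 S) :
    IsClosed (MoreMor.sectionComponents f e) := by
  refine closure_subset_iff_isClosed.1 fun x hx => ?_
  obtain ⟨V, hxV, Y₀, X₀, _, f₀, _, _, _, g, g', hsq⟩ := Stein5.exists_model f (f x)
  haveI : UniversallyOpen f₀ := inferInstance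
  haveI : IsFinite f₀.fromNormalization := Groth.Agent.S1297.result f₀
  haveI := Stein5.geometricallyConnected_toNormalization f₀
  haveI := Stein5.isProper_toNormalization f₀
  let fV := f ∣_ V
  let j := (f ⁻¹ᵁ V).ι
  -- the base changed Stein factorisation
  let P := pullback f₀.fromNormalization g
  let h : P ⟶ (V : Scheme.{u}) := pullback.snd _ _
  haveI : IsFinite h := MorphismProperty.pullback_snd (P := @IsFinite) _ _ inferInstance
  let gV : (↑(f ⁻¹ᵁ V) : Scheme.{u}) ⟶ P := pullback.lift (g' ≫ f₀.toNormalization) fV (by
    rw [Category.assoc, f₀.toNormalization_fromNormalization]; exact hsq.w)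
  have hgh : gV ≫ h = fV := pullback.lift_snd _ _ _
  have hpb : IsPullback g' gV f₀.toNormalization (pullback.fst f₀.fromNormalization g) := by
    refine IsPullback.of_bot ?_ (pullback.lift_fst _ _ _).symm (IsPullback.of_hasPullback f₀.fromNormalization g)
    rw [pullback.lift_snd, f₀.toNormalization_fromNormalization]
    exact hsq
  haveI : GeometricallyConnected gV := MorphismProperty.of_isPullback (P := @GeometricallyConnected) hpb inferInstance
  let eV : (V : Scheme.{u}) ⟶ ↑(f ⁻¹ᵁ V) := IsOpenImmersion.lift j (V.ι ≫ e) (by
    rintro _ ⟨v, rfl⟩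
    rw [Scheme.Opens.range_ι, Scheme.Hom.comp_apply]
    show f (e (V.ι v)) ∈ V
    rw [← Scheme.Hom.comp_apply e f, he]
    exact v.2)
  have heV : eV ≫ j = V.ι ≫ e := IsOpenImmersion.lift_fac _ _ _
  have heVf : eV ≫ fV = 𝟙 _ := by
    rw [← cancel_mono V.ι, Category.assoc, morphismRestrict_ι, ← Category.assoc, heV, Category.assoc, he,
      Category.comp_id, Category.id_comp]
  let σ := eV ≫ gV
  have hσ : σ ≫ h = 𝟙 _ := by rw [Category.assoc, hgh, heVf]
  haveI : IsClosedImmersion σ := by
    haveI : IsClosedImmersion (σ ≫ h) := by rw [hσ]; infer_instance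
    exact IsClosedImmersion.of_comp σ h
  -- in the fibres, the components through the section are the preimages of the section
  have key : ∀ z : (↑(f ⁻¹ᵁ V) : Scheme.{u}), j z ∈ MoreMor.sectionComponents f e ↔ gV z ∈ Set.range σ := by
    intro z
    have hfj : f (j z) = V.ι (fV z) := by
      rw [← Scheme.Hom.comp_apply, ← morphismRestrict_ι, Scheme.Hom.comp_apply]
    have hjσ : ∀ v, j (eV v) = e (V.ι v) := fun v => by rw [← Scheme.Hom.comp_apply, heV, Scheme.Hom.comp_apply]
    have hsσ : ∀ v, h (σ v) = v := fun v => by rw [← Scheme.Hom.comp_apply, hσ]; rfl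
    constructor
    · intro hz
      let K := connectedComponentIn (f ⁻¹' {f (j z)}) (e (f (j z)))
      have hK : K ⊆ Set.range j := fun w hw => by
        rw [Scheme.Opens.range_ι]
        show f w ∈ V
        rw [connectedComponentIn_subset _ _ hw, hfj]
        exact (fV z).2
      have hK' : _root_.IsPreconnected (j ⁻¹' K) := by
        rw [← j.isEmbedding.isInducing.isPreconnected_image, Set.image_preimage_eq_of_subset hK]
        exact isPreconnected_connectedComponentIn
      have hmaps : Set.MapsTo gV (j ⁻¹' K) (h ⁻¹' {fV z}) := fun w hw => by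
        show h (gV w) = fV z
        rw [← Scheme.Hom.comp_apply, hgh]
        refine V.ι.isOpenEmbedding.injective ?_
        rw [← hfj, ← Scheme.Hom.comp_apply, morphismRestrict_ι, Scheme.Hom.comp_apply]
        exact connectedComponentIn_subset (f ⁻¹' {f (j z)}) (e (f (j z))) hw
      have h1 : eV (fV z) ∈ j ⁻¹' K := by
        show j (eV (fV z)) ∈ K
        rw [hjσ, ← hfj]
        refine mem_connectedComponentIn ?_
        show f (e (f (j z))) = f (j z)
        rw [← Scheme.Hom.comp_apply e f, he]
        rfl
      refine ⟨fV z, ?_⟩
      rw [Scheme.Hom.comp_apply]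
      exact hK'.constant_of_mapsTo (h.isDiscrete_preimage_singleton (fV z)) gV.continuous.continuousOn hmaps h1 hz
    · rintro ⟨v, hv⟩
      have hvz : v = fV z := by rw [← hgh, Scheme.Hom.comp_apply, ← hv, hsσ]
      subst hvz
      have hpre := H23.RigidAb.isPreconnected_preimage gV (gV z)
      show j z ∈ connectedComponentIn (f ⁻¹' {f (j z)}) (e (f (j z)))
      refine (hpre.image _ j.continuous.continuousOn).subset_connectedComponentIn ⟨eV (fV z), ?_, ?_⟩ ?_ ⟨z, rfl, rfl⟩
      · show gV (eV (fV z)) = gV z
        rw [← hv, ← Scheme.Hom.comp_apply]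
      · rw [hjσ, ← hfj]
      · rintro _ ⟨w, hw, rfl⟩
        show f (j w) = f (j z)
        rw [hfj, ← Scheme.Hom.comp_apply, ← morphismRestrict_ι, Scheme.Hom.comp_apply,
          show fV w = fV z from by rw [← hgh, Scheme.Hom.comp_apply, Scheme.Hom.comp_apply, show gV w = gV z from hw]]
  -- hence closed near `x`
  obtain ⟨z, rfl⟩ : x ∈ Set.range j := by rw [Scheme.Opens.range_ι]; exact hxV
  rw [key]
  have hcl : IsClosed (gV ⁻¹' Set.range σ) := σ.isClosedEmbedding.isClosed_range.preimage gV.continuous
  have hmem : z ∈ closure (j ⁻¹' MoreMor.sectionComponents f e) := by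
    rw [← j.isOpenEmbedding.isOpenMap.preimage_closure_eq_closure_preimage j.continuous]
    exact hx
  rw [show j ⁻¹' MoreMor.sectionComponents f e = gV ⁻¹' Set.range σ from Set.ext key, hcl.closure_eq] at hmem
  exact hmem

/-- A proper smooth morphism with connected source and a section has geometrically integral fibres. -/
theorem geometricallyIntegral_of_section [Smooth f] [ConnectedSpace X] (e : S ⟶ X) (he : e ≫ f = 𝟙 S) :
    GeometricallyIntegral f := by
  have hC : MoreMor.sectionComponents f e = Set.univ := by
    obtain ⟨x⟩ := (inferInstance : Nonempty X)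
    exact IsClopen.eq_univ ⟨isClosed_sectionComponents f e he, SecComp5.isOpen_sectionComponents f e he⟩
      ⟨_, SecComp5.section_mem f e he (f x)⟩
  haveI : GeometricallyConnected f := H23.GeomConn.of_section f e he fun s => by
    haveI : _root_.Nonempty ↥(f.fiber s) :=
      ⟨SecComp5.fibreSection f e he s (IsLocalRing.closedPoint (S.residueField s))⟩
    refine { toPreconnectedSpace := ⟨?_⟩, toNonempty := inferInstance }
    convert isPreconnected_connectedComponent
      (x := SecComp5.fibreSection f e he s (IsLocalRing.closedPoint (S.residueField s))) using 1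
    refine (Set.eq_univ_of_forall fun z => ?_).symm
    rw [← SecComp5.fiberι_mem_iff f e he s, hC]
    trivial
  refine H23.MaxAbelian.geometricallyIntegral_of_pullback f fun K _ x => ?_
  haveI : ConnectedSpace ↥(pullback f x) :=
    GeometricallyConnected.geometrically_connectedSpace (f := f) _ _ _ (IsPullback.of_hasPullback f x)
  haveI : CompactSpace ↥(pullback f x) := QuasiCompact.compactSpace_of_compactSpace (pullback.snd f x)
  haveI : Smooth (pullback.snd f x) := MorphismProperty.pullback_snd (P := @Smooth) _ _ inferInstance
  exact CurveCohLib.isIntegral_of_smooth_connected (pullback.snd f x)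

end Groth.Agent.Stein5Sect
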